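import Groth.Agent.HenselLib.HenselizationLocal
import Groth.Agent.HenselLib.HenselizationAlg
import Mathlib

/-! The nilradical of a henselization. -/

namespace Groth.Agent.NilHens

open Groth.Agent.HenselLib IsLocalRing TensorProduct

universe u

variable {R : Type u} [CommRing R] {K : Type u} [Field K] [Algebra R K] {H : Type u} [CommRing H]
  [Algebra R H] {ρ : H →ₐ[R] K}

theorem nilradical_map (h : IsNbhdColim R K H ρ) :
    (nilradical R).map (algebraMap R H) = nilradical H := by
  refine le_antisymm (Ideal.map_le_iff_le_comap.mpr fun r hr => ?_) fun x hx => ?_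
  · exact mem_nilradical.mpr ((mem_nilradical.mp hr).map _)
  obtain ⟨k, hk⟩ := mem_nilradical.mp hx
  obtain ⟨C, _, _, _, τ, c, rfl⟩ := h.exists_rep x
  obtain ⟨D, _, _, _, φ, τ', hτ', hφ⟩ := h.exists_kill C τ (c ^ k) (by rw [map_pow, hk])
  rw [map_pow] at hφ
  haveI : _root_.IsReduced (R ⧸ nilradical R) := by
    rw [← Ideal.isRadical_iff_quotient_reduced]; exact Ideal.radical_isRadical _
  haveI := isReduced_of_etale (R ⧸ nilradical R) ((R ⧸ nilradical R) ⊗[R] D)
  have h1 : (1 : R ⧸ nilradical R) ⊗ₜ[R] φ c = 0 := by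
    have hn : IsNilpotent ((Algebra.TensorProduct.includeRight : D →ₐ[R] (R ⧸ nilradical R) ⊗[R] D) (φ c)) :=
      IsNilpotent.map ⟨k, hφ⟩ _
    exact hn.eq_zero
  have h2 : φ c ∈ (nilradical R).map (algebraMap R D) := by
    have h3 := congrArg (fun z => TensorProduct.quotTensorEquivQuotSMul D (nilradical R) z) h1
    simp only [map_zero] at h3
    rw [show (1 : R ⧸ nilradical R) = Ideal.Quotient.mk _ 1 from rfl,
      TensorProduct.quotTensorEquivQuotSMul_mk_tmul, one_smul, Submodule.Quotient.mk_eq_zero,
      Ideal.smul_top_eq_map] at h3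
    exact h3
  have h4 := Ideal.mem_map_of_mem (τ' : D →ₐ[R] H).toRingHom h2
  rw [Ideal.map_map] at h4
  rw [← hτ', AlgHom.comp_apply]
  rwa [show τ'.toRingHom.comp (algebraMap R D) = algebraMap R H from τ'.comp_algebraMap] at h4

theorem main (R S : Type u) [CommRing R] [IsLocalRing R] [CommRing S] [IsLocalRing S]
    [Algebra R S] [IsLocalHom (algebraMap R S)]
    (h : Hensel.IsHenselization R S ∨ Hensel.IsStrictHenselization R S) :
    (nilradical R).map (algebraMap R S) = nilradical S := by
  rcases h with h | h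
  · obtain ⟨ρ, hρ⟩ := exists_colim_of_isHenselization R S
    exact nilradical_map hρ
  · exact nilradical_map (exists_colim_of_isStrictHenselization R S)

end Groth.Agent.NilHens
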